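import Cfsg.Agent.Lib.Helper35.ONM11.Chk0
import Cfsg.Agent.Lib.Helper35.ONM11.Chk1
import Cfsg.Agent.Lib.Helper35.ONM11.Chk2
import Cfsg.Agent.Lib.Helper35.ONM11.Chk3
import Cfsg.Agent.Lib.Helper35.ONM11.Chk4
import Cfsg.Agent.Lib.Helper35.ONM11.Chk5
import Cfsg.Agent.Lib.Helper35.ONM11.Chk6
import Cfsg.Agent.Lib.Helper35.ONM11.Chk7
import Cfsg.Agent.Lib.Helper35.ONM11.Chk8
import Cfsg.Agent.Lib.Helper35.ONM11.Chk9
import Cfsg.Agent.Lib.Helper35.ONM11.Chk10

namespace Cfsg.Agent.Lib.Helper35.ONM11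

open Cfsg.Agent.Lib.Helper35

set_option maxRecDepth 100000

theorem e0u0 : ∀ i, i < 42720 → fe0 i = true := below_step fe0 0 42720 42720 (below_zero fe0) e0c0 rfl
theorem e0u1 : ∀ i, i < 85440 → fe0 i = true := below_step fe0 42720 42720 85440 e0u0 e0c1 rfl
theorem e0u2 : ∀ i, i < 122760 → fe0 i = true := below_step fe0 85440 37320 122760 e0u1 e0c2 rfl
theorem e1u0 : ∀ i, i < 1378 → fe1 i = true := below_step fe1 0 1378 1378 (below_zero fe1) e1c0 rfl
theorem e1u1 : ∀ i, i < 2756 → fe1 i = true := below_step fe1 1378 1378 2756 e1u0 e1c1 rfl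
theorem e1u2 : ∀ i, i < 4134 → fe1 i = true := below_step fe1 2756 1378 4134 e1u1 e1c2 rfl
theorem e1u3 : ∀ i, i < 5512 → fe1 i = true := below_step fe1 4134 1378 5512 e1u2 e1c3 rfl
theorem e1u4 : ∀ i, i < 6890 → fe1 i = true := below_step fe1 5512 1378 6890 e1u3 e1c4 rfl
theorem e1u5 : ∀ i, i < 8268 → fe1 i = true := below_step fe1 6890 1378 8268 e1u4 e1c5 rfl
theorem e1u6 : ∀ i, i < 9646 → fe1 i = true := below_step fe1 8268 1378 9646 e1u5 e1c6 rfl
theorem e1u7 : ∀ i, i < 11024 → fe1 i = true := below_step fe1 9646 1378 11024 e1u6 e1c7 rfl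
theorem e1u8 : ∀ i, i < 12402 → fe1 i = true := below_step fe1 11024 1378 12402 e1u7 e1c8 rfl
theorem e1u9 : ∀ i, i < 13780 → fe1 i = true := below_step fe1 12402 1378 13780 e1u8 e1c9 rfl
theorem e1u10 : ∀ i, i < 15158 → fe1 i = true := below_step fe1 13780 1378 15158 e1u9 e1c10 rfl
theorem e1u11 : ∀ i, i < 16536 → fe1 i = true := below_step fe1 15158 1378 16536 e1u10 e1c11 rfl
theorem e1u12 : ∀ i, i < 17914 → fe1 i = true := below_step fe1 16536 1378 17914 e1u11 e1c12 rfl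
theorem e1u13 : ∀ i, i < 19292 → fe1 i = true := below_step fe1 17914 1378 19292 e1u12 e1c13 rfl
theorem e1u14 : ∀ i, i < 20670 → fe1 i = true := below_step fe1 19292 1378 20670 e1u13 e1c14 rfl
theorem e1u15 : ∀ i, i < 22048 → fe1 i = true := below_step fe1 20670 1378 22048 e1u14 e1c15 rfl
theorem e1u16 : ∀ i, i < 23426 → fe1 i = true := below_step fe1 22048 1378 23426 e1u15 e1c16 rfl
theorem e1u17 : ∀ i, i < 24804 → fe1 i = true := below_step fe1 23426 1378 24804 e1u16 e1c17 rfl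
theorem e1u18 : ∀ i, i < 26182 → fe1 i = true := below_step fe1 24804 1378 26182 e1u17 e1c18 rfl
theorem e1u19 : ∀ i, i < 27560 → fe1 i = true := below_step fe1 26182 1378 27560 e1u18 e1c19 rfl
theorem e1u20 : ∀ i, i < 28938 → fe1 i = true := below_step fe1 27560 1378 28938 e1u19 e1c20 rfl
theorem e1u21 : ∀ i, i < 30316 → fe1 i = true := below_step fe1 28938 1378 30316 e1u20 e1c21 rfl
theorem e1u22 : ∀ i, i < 31694 → fe1 i = true := below_step fe1 30316 1378 31694 e1u21 e1c22 rfl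
theorem e1u23 : ∀ i, i < 33072 → fe1 i = true := below_step fe1 31694 1378 33072 e1u22 e1c23 rfl
theorem e1u24 : ∀ i, i < 34450 → fe1 i = true := below_step fe1 33072 1378 34450 e1u23 e1c24 rfl
theorem e1u25 : ∀ i, i < 35828 → fe1 i = true := below_step fe1 34450 1378 35828 e1u24 e1c25 rfl
theorem e1u26 : ∀ i, i < 37206 → fe1 i = true := below_step fe1 35828 1378 37206 e1u25 e1c26 rfl
theorem e1u27 : ∀ i, i < 38584 → fe1 i = true := below_step fe1 37206 1378 38584 e1u26 e1c27 rfl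
theorem e1u28 : ∀ i, i < 39962 → fe1 i = true := below_step fe1 38584 1378 39962 e1u27 e1c28 rfl
theorem e1u29 : ∀ i, i < 41340 → fe1 i = true := below_step fe1 39962 1378 41340 e1u28 e1c29 rfl
theorem e1u30 : ∀ i, i < 42718 → fe1 i = true := below_step fe1 41340 1378 42718 e1u29 e1c30 rfl
theorem e1u31 : ∀ i, i < 44096 → fe1 i = true := below_step fe1 42718 1378 44096 e1u30 e1c31 rfl
theorem e1u32 : ∀ i, i < 45474 → fe1 i = true := below_step fe1 44096 1378 45474 e1u31 e1c32 rfl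
theorem e1u33 : ∀ i, i < 46852 → fe1 i = true := below_step fe1 45474 1378 46852 e1u32 e1c33 rfl
theorem e1u34 : ∀ i, i < 48230 → fe1 i = true := below_step fe1 46852 1378 48230 e1u33 e1c34 rfl
theorem e1u35 : ∀ i, i < 49608 → fe1 i = true := below_step fe1 48230 1378 49608 e1u34 e1c35 rfl
theorem e1u36 : ∀ i, i < 50986 → fe1 i = true := below_step fe1 49608 1378 50986 e1u35 e1c36 rfl
theorem e1u37 : ∀ i, i < 52364 → fe1 i = true := below_step fe1 50986 1378 52364 e1u36 e1c37 rfl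
theorem e1u38 : ∀ i, i < 53742 → fe1 i = true := below_step fe1 52364 1378 53742 e1u37 e1c38 rfl
theorem e1u39 : ∀ i, i < 55120 → fe1 i = true := below_step fe1 53742 1378 55120 e1u38 e1c39 rfl
theorem e1u40 : ∀ i, i < 56498 → fe1 i = true := below_step fe1 55120 1378 56498 e1u39 e1c40 rfl
theorem e1u41 : ∀ i, i < 57876 → fe1 i = true := below_step fe1 56498 1378 57876 e1u40 e1c41 rfl
theorem e1u42 : ∀ i, i < 59254 → fe1 i = true := below_step fe1 57876 1378 59254 e1u41 e1c42 rfl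
theorem e1u43 : ∀ i, i < 60632 → fe1 i = true := below_step fe1 59254 1378 60632 e1u42 e1c43 rfl
theorem e1u44 : ∀ i, i < 62010 → fe1 i = true := below_step fe1 60632 1378 62010 e1u43 e1c44 rfl
theorem e1u45 : ∀ i, i < 63388 → fe1 i = true := below_step fe1 62010 1378 63388 e1u44 e1c45 rfl
theorem e1u46 : ∀ i, i < 64766 → fe1 i = true := below_step fe1 63388 1378 64766 e1u45 e1c46 rfl
theorem e1u47 : ∀ i, i < 66144 → fe1 i = true := below_step fe1 64766 1378 66144 e1u46 e1c47 rfl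
theorem e1u48 : ∀ i, i < 67522 → fe1 i = true := below_step fe1 66144 1378 67522 e1u47 e1c48 rfl
theorem e1u49 : ∀ i, i < 68900 → fe1 i = true := below_step fe1 67522 1378 68900 e1u48 e1c49 rfl
theorem e1u50 : ∀ i, i < 70278 → fe1 i = true := below_step fe1 68900 1378 70278 e1u49 e1c50 rfl
theorem e1u51 : ∀ i, i < 71656 → fe1 i = true := below_step fe1 70278 1378 71656 e1u50 e1c51 rfl
theorem e1u52 : ∀ i, i < 73034 → fe1 i = true := below_step fe1 71656 1378 73034 e1u51 e1c52 rfl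
theorem e1u53 : ∀ i, i < 74412 → fe1 i = true := below_step fe1 73034 1378 74412 e1u52 e1c53 rfl
theorem e1u54 : ∀ i, i < 75790 → fe1 i = true := below_step fe1 74412 1378 75790 e1u53 e1c54 rfl
theorem e1u55 : ∀ i, i < 77168 → fe1 i = true := below_step fe1 75790 1378 77168 e1u54 e1c55 rfl
theorem e1u56 : ∀ i, i < 78546 → fe1 i = true := below_step fe1 77168 1378 78546 e1u55 e1c56 rfl
theorem e1u57 : ∀ i, i < 79924 → fe1 i = true := below_step fe1 78546 1378 79924 e1u56 e1c57 rfl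
theorem e1u58 : ∀ i, i < 81302 → fe1 i = true := below_step fe1 79924 1378 81302 e1u57 e1c58 rfl
theorem e1u59 : ∀ i, i < 82680 → fe1 i = true := below_step fe1 81302 1378 82680 e1u58 e1c59 rfl
theorem e1u60 : ∀ i, i < 84058 → fe1 i = true := below_step fe1 82680 1378 84058 e1u59 e1c60 rfl
theorem e1u61 : ∀ i, i < 85436 → fe1 i = true := below_step fe1 84058 1378 85436 e1u60 e1c61 rfl
theorem e1u62 : ∀ i, i < 86814 → fe1 i = true := below_step fe1 85436 1378 86814 e1u61 e1c62 rfl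
theorem e1u63 : ∀ i, i < 88192 → fe1 i = true := below_step fe1 86814 1378 88192 e1u62 e1c63 rfl
theorem e1u64 : ∀ i, i < 89570 → fe1 i = true := below_step fe1 88192 1378 89570 e1u63 e1c64 rfl
theorem e1u65 : ∀ i, i < 90948 → fe1 i = true := below_step fe1 89570 1378 90948 e1u64 e1c65 rfl
theorem e1u66 : ∀ i, i < 92326 → fe1 i = true := below_step fe1 90948 1378 92326 e1u65 e1c66 rfl
theorem e1u67 : ∀ i, i < 93704 → fe1 i = true := below_step fe1 92326 1378 93704 e1u66 e1c67 rfl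
theorem e1u68 : ∀ i, i < 95082 → fe1 i = true := below_step fe1 93704 1378 95082 e1u67 e1c68 rfl
theorem e1u69 : ∀ i, i < 96460 → fe1 i = true := below_step fe1 95082 1378 96460 e1u68 e1c69 rfl
theorem e1u70 : ∀ i, i < 97838 → fe1 i = true := below_step fe1 96460 1378 97838 e1u69 e1c70 rfl
theorem e1u71 : ∀ i, i < 99216 → fe1 i = true := below_step fe1 97838 1378 99216 e1u70 e1c71 rfl
theorem e1u72 : ∀ i, i < 100594 → fe1 i = true := below_step fe1 99216 1378 100594 e1u71 e1c72 rfl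
theorem e1u73 : ∀ i, i < 101972 → fe1 i = true := below_step fe1 100594 1378 101972 e1u72 e1c73 rfl
theorem e1u74 : ∀ i, i < 103350 → fe1 i = true := below_step fe1 101972 1378 103350 e1u73 e1c74 rfl
theorem e1u75 : ∀ i, i < 104728 → fe1 i = true := below_step fe1 103350 1378 104728 e1u74 e1c75 rfl
theorem e1u76 : ∀ i, i < 106106 → fe1 i = true := below_step fe1 104728 1378 106106 e1u75 e1c76 rfl
theorem e1u77 : ∀ i, i < 107484 → fe1 i = true := below_step fe1 106106 1378 107484 e1u76 e1c77 rfl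
theorem e1u78 : ∀ i, i < 108862 → fe1 i = true := below_step fe1 107484 1378 108862 e1u77 e1c78 rfl
theorem e1u79 : ∀ i, i < 110240 → fe1 i = true := below_step fe1 108862 1378 110240 e1u78 e1c79 rfl
theorem e1u80 : ∀ i, i < 111618 → fe1 i = true := below_step fe1 110240 1378 111618 e1u79 e1c80 rfl
theorem e1u81 : ∀ i, i < 112996 → fe1 i = true := below_step fe1 111618 1378 112996 e1u80 e1c81 rfl
theorem e1u82 : ∀ i, i < 114374 → fe1 i = true := below_step fe1 112996 1378 114374 e1u81 e1c82 rfl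
theorem e1u83 : ∀ i, i < 115752 → fe1 i = true := below_step fe1 114374 1378 115752 e1u82 e1c83 rfl
theorem e1u84 : ∀ i, i < 117130 → fe1 i = true := below_step fe1 115752 1378 117130 e1u83 e1c84 rfl
theorem e1u85 : ∀ i, i < 118508 → fe1 i = true := below_step fe1 117130 1378 118508 e1u84 e1c85 rfl
theorem e1u86 : ∀ i, i < 119886 → fe1 i = true := below_step fe1 118508 1378 119886 e1u85 e1c86 rfl
theorem e1u87 : ∀ i, i < 121264 → fe1 i = true := below_step fe1 119886 1378 121264 e1u86 e1c87 rfl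
theorem e1u88 : ∀ i, i < 122642 → fe1 i = true := below_step fe1 121264 1378 122642 e1u87 e1c88 rfl
theorem e1u89 : ∀ i, i < 122760 → fe1 i = true := below_step fe1 122642 118 122760 e1u88 e1c89 rfl
theorem e2u0 : ∀ i, i < 1378 → fe2 i = true := below_step fe2 0 1378 1378 (below_zero fe2) e2c0 rfl
theorem e2u1 : ∀ i, i < 2756 → fe2 i = true := below_step fe2 1378 1378 2756 e2u0 e2c1 rfl
theorem e2u2 : ∀ i, i < 4134 → fe2 i = true := below_step fe2 2756 1378 4134 e2u1 e2c2 rfl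
theorem e2u3 : ∀ i, i < 5512 → fe2 i = true := below_step fe2 4134 1378 5512 e2u2 e2c3 rfl
theorem e2u4 : ∀ i, i < 6890 → fe2 i = true := below_step fe2 5512 1378 6890 e2u3 e2c4 rfl
theorem e2u5 : ∀ i, i < 8268 → fe2 i = true := below_step fe2 6890 1378 8268 e2u4 e2c5 rfl
theorem e2u6 : ∀ i, i < 9646 → fe2 i = true := below_step fe2 8268 1378 9646 e2u5 e2c6 rfl
theorem e2u7 : ∀ i, i < 11024 → fe2 i = true := below_step fe2 9646 1378 11024 e2u6 e2c7 rfl
theorem e2u8 : ∀ i, i < 12402 → fe2 i = true := below_step fe2 11024 1378 12402 e2u7 e2c8 rfl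
theorem e2u9 : ∀ i, i < 13780 → fe2 i = true := below_step fe2 12402 1378 13780 e2u8 e2c9 rfl
theorem e2u10 : ∀ i, i < 15158 → fe2 i = true := below_step fe2 13780 1378 15158 e2u9 e2c10 rfl
theorem e2u11 : ∀ i, i < 16536 → fe2 i = true := below_step fe2 15158 1378 16536 e2u10 e2c11 rfl
theorem e2u12 : ∀ i, i < 17914 → fe2 i = true := below_step fe2 16536 1378 17914 e2u11 e2c12 rfl
theorem e2u13 : ∀ i, i < 19292 → fe2 i = true := below_step fe2 17914 1378 19292 e2u12 e2c13 rfl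
theorem e2u14 : ∀ i, i < 20670 → fe2 i = true := below_step fe2 19292 1378 20670 e2u13 e2c14 rfl
theorem e2u15 : ∀ i, i < 22048 → fe2 i = true := below_step fe2 20670 1378 22048 e2u14 e2c15 rfl
theorem e2u16 : ∀ i, i < 23426 → fe2 i = true := below_step fe2 22048 1378 23426 e2u15 e2c16 rfl
theorem e2u17 : ∀ i, i < 24804 → fe2 i = true := below_step fe2 23426 1378 24804 e2u16 e2c17 rfl
theorem e2u18 : ∀ i, i < 26182 → fe2 i = true := below_step fe2 24804 1378 26182 e2u17 e2c18 rfl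
theorem e2u19 : ∀ i, i < 27560 → fe2 i = true := below_step fe2 26182 1378 27560 e2u18 e2c19 rfl
theorem e2u20 : ∀ i, i < 28938 → fe2 i = true := below_step fe2 27560 1378 28938 e2u19 e2c20 rfl
theorem e2u21 : ∀ i, i < 30316 → fe2 i = true := below_step fe2 28938 1378 30316 e2u20 e2c21 rfl
theorem e2u22 : ∀ i, i < 31694 → fe2 i = true := below_step fe2 30316 1378 31694 e2u21 e2c22 rfl
theorem e2u23 : ∀ i, i < 33072 → fe2 i = true := below_step fe2 31694 1378 33072 e2u22 e2c23 rfl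
theorem e2u24 : ∀ i, i < 34450 → fe2 i = true := below_step fe2 33072 1378 34450 e2u23 e2c24 rfl
theorem e2u25 : ∀ i, i < 35828 → fe2 i = true := below_step fe2 34450 1378 35828 e2u24 e2c25 rfl
theorem e2u26 : ∀ i, i < 37206 → fe2 i = true := below_step fe2 35828 1378 37206 e2u25 e2c26 rfl
theorem e2u27 : ∀ i, i < 38584 → fe2 i = true := below_step fe2 37206 1378 38584 e2u26 e2c27 rfl
theorem e2u28 : ∀ i, i < 39962 → fe2 i = true := below_step fe2 38584 1378 39962 e2u27 e2c28 rfl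
theorem e2u29 : ∀ i, i < 41340 → fe2 i = true := below_step fe2 39962 1378 41340 e2u28 e2c29 rfl
theorem e2u30 : ∀ i, i < 42718 → fe2 i = true := below_step fe2 41340 1378 42718 e2u29 e2c30 rfl
theorem e2u31 : ∀ i, i < 44096 → fe2 i = true := below_step fe2 42718 1378 44096 e2u30 e2c31 rfl
theorem e2u32 : ∀ i, i < 45474 → fe2 i = true := below_step fe2 44096 1378 45474 e2u31 e2c32 rfl
theorem e2u33 : ∀ i, i < 46852 → fe2 i = true := below_step fe2 45474 1378 46852 e2u32 e2c33 rfl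
theorem e2u34 : ∀ i, i < 48230 → fe2 i = true := below_step fe2 46852 1378 48230 e2u33 e2c34 rfl
theorem e2u35 : ∀ i, i < 49608 → fe2 i = true := below_step fe2 48230 1378 49608 e2u34 e2c35 rfl
theorem e2u36 : ∀ i, i < 50986 → fe2 i = true := below_step fe2 49608 1378 50986 e2u35 e2c36 rfl
theorem e2u37 : ∀ i, i < 52364 → fe2 i = true := below_step fe2 50986 1378 52364 e2u36 e2c37 rfl
theorem e2u38 : ∀ i, i < 53742 → fe2 i = true := below_step fe2 52364 1378 53742 e2u37 e2c38 rfl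
theorem e2u39 : ∀ i, i < 55120 → fe2 i = true := below_step fe2 53742 1378 55120 e2u38 e2c39 rfl
theorem e2u40 : ∀ i, i < 56498 → fe2 i = true := below_step fe2 55120 1378 56498 e2u39 e2c40 rfl
theorem e2u41 : ∀ i, i < 57876 → fe2 i = true := below_step fe2 56498 1378 57876 e2u40 e2c41 rfl
theorem e2u42 : ∀ i, i < 59254 → fe2 i = true := below_step fe2 57876 1378 59254 e2u41 e2c42 rfl
theorem e2u43 : ∀ i, i < 60632 → fe2 i = true := below_step fe2 59254 1378 60632 e2u42 e2c43 rfl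
theorem e2u44 : ∀ i, i < 62010 → fe2 i = true := below_step fe2 60632 1378 62010 e2u43 e2c44 rfl
theorem e2u45 : ∀ i, i < 63388 → fe2 i = true := below_step fe2 62010 1378 63388 e2u44 e2c45 rfl
theorem e2u46 : ∀ i, i < 64766 → fe2 i = true := below_step fe2 63388 1378 64766 e2u45 e2c46 rfl
theorem e2u47 : ∀ i, i < 66144 → fe2 i = true := below_step fe2 64766 1378 66144 e2u46 e2c47 rfl
theorem e2u48 : ∀ i, i < 67522 → fe2 i = true := below_step fe2 66144 1378 67522 e2u47 e2c48 rfl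
theorem e2u49 : ∀ i, i < 68900 → fe2 i = true := below_step fe2 67522 1378 68900 e2u48 e2c49 rfl
theorem e2u50 : ∀ i, i < 70278 → fe2 i = true := below_step fe2 68900 1378 70278 e2u49 e2c50 rfl
theorem e2u51 : ∀ i, i < 71656 → fe2 i = true := below_step fe2 70278 1378 71656 e2u50 e2c51 rfl
theorem e2u52 : ∀ i, i < 73034 → fe2 i = true := below_step fe2 71656 1378 73034 e2u51 e2c52 rfl
theorem e2u53 : ∀ i, i < 74412 → fe2 i = true := below_step fe2 73034 1378 74412 e2u52 e2c53 rfl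
theorem e2u54 : ∀ i, i < 75790 → fe2 i = true := below_step fe2 74412 1378 75790 e2u53 e2c54 rfl
theorem e2u55 : ∀ i, i < 77168 → fe2 i = true := below_step fe2 75790 1378 77168 e2u54 e2c55 rfl
theorem e2u56 : ∀ i, i < 78546 → fe2 i = true := below_step fe2 77168 1378 78546 e2u55 e2c56 rfl
theorem e2u57 : ∀ i, i < 79924 → fe2 i = true := below_step fe2 78546 1378 79924 e2u56 e2c57 rfl
theorem e2u58 : ∀ i, i < 81302 → fe2 i = true := below_step fe2 79924 1378 81302 e2u57 e2c58 rfl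
theorem e2u59 : ∀ i, i < 82680 → fe2 i = true := below_step fe2 81302 1378 82680 e2u58 e2c59 rfl
theorem e2u60 : ∀ i, i < 84058 → fe2 i = true := below_step fe2 82680 1378 84058 e2u59 e2c60 rfl
theorem e2u61 : ∀ i, i < 85436 → fe2 i = true := below_step fe2 84058 1378 85436 e2u60 e2c61 rfl
theorem e2u62 : ∀ i, i < 86814 → fe2 i = true := below_step fe2 85436 1378 86814 e2u61 e2c62 rfl
theorem e2u63 : ∀ i, i < 88192 → fe2 i = true := below_step fe2 86814 1378 88192 e2u62 e2c63 rfl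
theorem e2u64 : ∀ i, i < 89570 → fe2 i = true := below_step fe2 88192 1378 89570 e2u63 e2c64 rfl
theorem e2u65 : ∀ i, i < 90948 → fe2 i = true := below_step fe2 89570 1378 90948 e2u64 e2c65 rfl
theorem e2u66 : ∀ i, i < 92326 → fe2 i = true := below_step fe2 90948 1378 92326 e2u65 e2c66 rfl
theorem e2u67 : ∀ i, i < 93704 → fe2 i = true := below_step fe2 92326 1378 93704 e2u66 e2c67 rfl
theorem e2u68 : ∀ i, i < 95082 → fe2 i = true := below_step fe2 93704 1378 95082 e2u67 e2c68 rfl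
theorem e2u69 : ∀ i, i < 96460 → fe2 i = true := below_step fe2 95082 1378 96460 e2u68 e2c69 rfl
theorem e2u70 : ∀ i, i < 97838 → fe2 i = true := below_step fe2 96460 1378 97838 e2u69 e2c70 rfl
theorem e2u71 : ∀ i, i < 99216 → fe2 i = true := below_step fe2 97838 1378 99216 e2u70 e2c71 rfl
theorem e2u72 : ∀ i, i < 100594 → fe2 i = true := below_step fe2 99216 1378 100594 e2u71 e2c72 rfl
theorem e2u73 : ∀ i, i < 101972 → fe2 i = true := below_step fe2 100594 1378 101972 e2u72 e2c73 rfl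
theorem e2u74 : ∀ i, i < 103350 → fe2 i = true := below_step fe2 101972 1378 103350 e2u73 e2c74 rfl
theorem e2u75 : ∀ i, i < 104728 → fe2 i = true := below_step fe2 103350 1378 104728 e2u74 e2c75 rfl
theorem e2u76 : ∀ i, i < 106106 → fe2 i = true := below_step fe2 104728 1378 106106 e2u75 e2c76 rfl
theorem e2u77 : ∀ i, i < 107484 → fe2 i = true := below_step fe2 106106 1378 107484 e2u76 e2c77 rfl
theorem e2u78 : ∀ i, i < 108862 → fe2 i = true := below_step fe2 107484 1378 108862 e2u77 e2c78 rfl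
theorem e2u79 : ∀ i, i < 110240 → fe2 i = true := below_step fe2 108862 1378 110240 e2u78 e2c79 rfl
theorem e2u80 : ∀ i, i < 111618 → fe2 i = true := below_step fe2 110240 1378 111618 e2u79 e2c80 rfl
theorem e2u81 : ∀ i, i < 112996 → fe2 i = true := below_step fe2 111618 1378 112996 e2u80 e2c81 rfl
theorem e2u82 : ∀ i, i < 114374 → fe2 i = true := below_step fe2 112996 1378 114374 e2u81 e2c82 rfl
theorem e2u83 : ∀ i, i < 115752 → fe2 i = true := below_step fe2 114374 1378 115752 e2u82 e2c83 rfl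
theorem e2u84 : ∀ i, i < 117130 → fe2 i = true := below_step fe2 115752 1378 117130 e2u83 e2c84 rfl
theorem e2u85 : ∀ i, i < 118508 → fe2 i = true := below_step fe2 117130 1378 118508 e2u84 e2c85 rfl
theorem e2u86 : ∀ i, i < 119886 → fe2 i = true := below_step fe2 118508 1378 119886 e2u85 e2c86 rfl
theorem e2u87 : ∀ i, i < 121264 → fe2 i = true := below_step fe2 119886 1378 121264 e2u86 e2c87 rfl
theorem e2u88 : ∀ i, i < 122642 → fe2 i = true := below_step fe2 121264 1378 122642 e2u87 e2c88 rfl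
theorem e2u89 : ∀ i, i < 122760 → fe2 i = true := below_step fe2 122642 118 122760 e2u88 e2c89 rfl
theorem ru0 : ∀ i, i < 1238 → fr i = true := below_step fr 0 1238 1238 (below_zero fr) rc0 rfl
theorem ru1 : ∀ i, i < 2476 → fr i = true := below_step fr 1238 1238 2476 ru0 rc1 rfl
theorem ru2 : ∀ i, i < 3714 → fr i = true := below_step fr 2476 1238 3714 ru1 rc2 rfl
theorem ru3 : ∀ i, i < 4952 → fr i = true := below_step fr 3714 1238 4952 ru2 rc3 rfl
theorem ru4 : ∀ i, i < 6190 → fr i = true := below_step fr 4952 1238 6190 ru3 rc4 rfl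
theorem ru5 : ∀ i, i < 7428 → fr i = true := below_step fr 6190 1238 7428 ru4 rc5 rfl
theorem ru6 : ∀ i, i < 8666 → fr i = true := below_step fr 7428 1238 8666 ru5 rc6 rfl
theorem ru7 : ∀ i, i < 9904 → fr i = true := below_step fr 8666 1238 9904 ru6 rc7 rfl
theorem ru8 : ∀ i, i < 11142 → fr i = true := below_step fr 9904 1238 11142 ru7 rc8 rfl
theorem ru9 : ∀ i, i < 12380 → fr i = true := below_step fr 11142 1238 12380 ru8 rc9 rfl
theorem ru10 : ∀ i, i < 13618 → fr i = true := below_step fr 12380 1238 13618 ru9 rc10 rfl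
theorem ru11 : ∀ i, i < 14856 → fr i = true := below_step fr 13618 1238 14856 ru10 rc11 rfl
theorem ru12 : ∀ i, i < 16094 → fr i = true := below_step fr 14856 1238 16094 ru11 rc12 rfl
theorem ru13 : ∀ i, i < 17332 → fr i = true := below_step fr 16094 1238 17332 ru12 rc13 rfl
theorem ru14 : ∀ i, i < 18570 → fr i = true := below_step fr 17332 1238 18570 ru13 rc14 rfl
theorem ru15 : ∀ i, i < 19808 → fr i = true := below_step fr 18570 1238 19808 ru14 rc15 rfl
theorem ru16 : ∀ i, i < 21046 → fr i = true := below_step fr 19808 1238 21046 ru15 rc16 rfl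
theorem ru17 : ∀ i, i < 22284 → fr i = true := below_step fr 21046 1238 22284 ru16 rc17 rfl
theorem ru18 : ∀ i, i < 23522 → fr i = true := below_step fr 22284 1238 23522 ru17 rc18 rfl
theorem ru19 : ∀ i, i < 24760 → fr i = true := below_step fr 23522 1238 24760 ru18 rc19 rfl
theorem ru20 : ∀ i, i < 25998 → fr i = true := below_step fr 24760 1238 25998 ru19 rc20 rfl
theorem ru21 : ∀ i, i < 27236 → fr i = true := below_step fr 25998 1238 27236 ru20 rc21 rfl
theorem ru22 : ∀ i, i < 28474 → fr i = true := below_step fr 27236 1238 28474 ru21 rc22 rfl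
theorem ru23 : ∀ i, i < 29712 → fr i = true := below_step fr 28474 1238 29712 ru22 rc23 rfl
theorem ru24 : ∀ i, i < 30950 → fr i = true := below_step fr 29712 1238 30950 ru23 rc24 rfl
theorem ru25 : ∀ i, i < 32188 → fr i = true := below_step fr 30950 1238 32188 ru24 rc25 rfl
theorem ru26 : ∀ i, i < 33426 → fr i = true := below_step fr 32188 1238 33426 ru25 rc26 rfl
theorem ru27 : ∀ i, i < 34664 → fr i = true := below_step fr 33426 1238 34664 ru26 rc27 rfl
theorem ru28 : ∀ i, i < 35902 → fr i = true := below_step fr 34664 1238 35902 ru27 rc28 rfl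
theorem ru29 : ∀ i, i < 37140 → fr i = true := below_step fr 35902 1238 37140 ru28 rc29 rfl
theorem ru30 : ∀ i, i < 38378 → fr i = true := below_step fr 37140 1238 38378 ru29 rc30 rfl
theorem ru31 : ∀ i, i < 39616 → fr i = true := below_step fr 38378 1238 39616 ru30 rc31 rfl
theorem ru32 : ∀ i, i < 40854 → fr i = true := below_step fr 39616 1238 40854 ru31 rc32 rfl
theorem ru33 : ∀ i, i < 42092 → fr i = true := below_step fr 40854 1238 42092 ru32 rc33 rfl
theorem ru34 : ∀ i, i < 43330 → fr i = true := below_step fr 42092 1238 43330 ru33 rc34 rfl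
theorem ru35 : ∀ i, i < 44568 → fr i = true := below_step fr 43330 1238 44568 ru34 rc35 rfl
theorem ru36 : ∀ i, i < 45806 → fr i = true := below_step fr 44568 1238 45806 ru35 rc36 rfl
theorem ru37 : ∀ i, i < 47044 → fr i = true := below_step fr 45806 1238 47044 ru36 rc37 rfl
theorem ru38 : ∀ i, i < 48282 → fr i = true := below_step fr 47044 1238 48282 ru37 rc38 rfl
theorem ru39 : ∀ i, i < 49520 → fr i = true := below_step fr 48282 1238 49520 ru38 rc39 rfl
theorem ru40 : ∀ i, i < 50758 → fr i = true := below_step fr 49520 1238 50758 ru39 rc40 rfl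
theorem ru41 : ∀ i, i < 51996 → fr i = true := below_step fr 50758 1238 51996 ru40 rc41 rfl
theorem ru42 : ∀ i, i < 53234 → fr i = true := below_step fr 51996 1238 53234 ru41 rc42 rfl
theorem ru43 : ∀ i, i < 54472 → fr i = true := below_step fr 53234 1238 54472 ru42 rc43 rfl
theorem ru44 : ∀ i, i < 55710 → fr i = true := below_step fr 54472 1238 55710 ru43 rc44 rfl
theorem ru45 : ∀ i, i < 56948 → fr i = true := below_step fr 55710 1238 56948 ru44 rc45 rfl
theorem ru46 : ∀ i, i < 58186 → fr i = true := below_step fr 56948 1238 58186 ru45 rc46 rfl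
theorem ru47 : ∀ i, i < 59424 → fr i = true := below_step fr 58186 1238 59424 ru46 rc47 rfl
theorem ru48 : ∀ i, i < 60662 → fr i = true := below_step fr 59424 1238 60662 ru47 rc48 rfl
theorem ru49 : ∀ i, i < 61900 → fr i = true := below_step fr 60662 1238 61900 ru48 rc49 rfl
theorem ru50 : ∀ i, i < 63138 → fr i = true := below_step fr 61900 1238 63138 ru49 rc50 rfl
theorem ru51 : ∀ i, i < 64376 → fr i = true := below_step fr 63138 1238 64376 ru50 rc51 rfl
theorem ru52 : ∀ i, i < 65614 → fr i = true := below_step fr 64376 1238 65614 ru51 rc52 rfl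
theorem ru53 : ∀ i, i < 66852 → fr i = true := below_step fr 65614 1238 66852 ru52 rc53 rfl
theorem ru54 : ∀ i, i < 68090 → fr i = true := below_step fr 66852 1238 68090 ru53 rc54 rfl
theorem ru55 : ∀ i, i < 69328 → fr i = true := below_step fr 68090 1238 69328 ru54 rc55 rfl
theorem ru56 : ∀ i, i < 70566 → fr i = true := below_step fr 69328 1238 70566 ru55 rc56 rfl
theorem ru57 : ∀ i, i < 71804 → fr i = true := below_step fr 70566 1238 71804 ru56 rc57 rfl
theorem ru58 : ∀ i, i < 73042 → fr i = true := below_step fr 71804 1238 73042 ru57 rc58 rfl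
theorem ru59 : ∀ i, i < 74280 → fr i = true := below_step fr 73042 1238 74280 ru58 rc59 rfl
theorem ru60 : ∀ i, i < 75518 → fr i = true := below_step fr 74280 1238 75518 ru59 rc60 rfl
theorem ru61 : ∀ i, i < 76756 → fr i = true := below_step fr 75518 1238 76756 ru60 rc61 rfl
theorem ru62 : ∀ i, i < 77994 → fr i = true := below_step fr 76756 1238 77994 ru61 rc62 rfl
theorem ru63 : ∀ i, i < 79232 → fr i = true := below_step fr 77994 1238 79232 ru62 rc63 rfl
theorem ru64 : ∀ i, i < 80470 → fr i = true := below_step fr 79232 1238 80470 ru63 rc64 rfl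
theorem ru65 : ∀ i, i < 81708 → fr i = true := below_step fr 80470 1238 81708 ru64 rc65 rfl
theorem ru66 : ∀ i, i < 82946 → fr i = true := below_step fr 81708 1238 82946 ru65 rc66 rfl
theorem ru67 : ∀ i, i < 84184 → fr i = true := below_step fr 82946 1238 84184 ru66 rc67 rfl
theorem ru68 : ∀ i, i < 85422 → fr i = true := below_step fr 84184 1238 85422 ru67 rc68 rfl
theorem ru69 : ∀ i, i < 86660 → fr i = true := below_step fr 85422 1238 86660 ru68 rc69 rfl
theorem ru70 : ∀ i, i < 87898 → fr i = true := below_step fr 86660 1238 87898 ru69 rc70 rfl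
theorem ru71 : ∀ i, i < 89136 → fr i = true := below_step fr 87898 1238 89136 ru70 rc71 rfl
theorem ru72 : ∀ i, i < 90374 → fr i = true := below_step fr 89136 1238 90374 ru71 rc72 rfl
theorem ru73 : ∀ i, i < 91612 → fr i = true := below_step fr 90374 1238 91612 ru72 rc73 rfl
theorem ru74 : ∀ i, i < 92850 → fr i = true := below_step fr 91612 1238 92850 ru73 rc74 rfl
theorem ru75 : ∀ i, i < 94088 → fr i = true := below_step fr 92850 1238 94088 ru74 rc75 rfl
theorem ru76 : ∀ i, i < 95326 → fr i = true := below_step fr 94088 1238 95326 ru75 rc76 rfl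
theorem ru77 : ∀ i, i < 96564 → fr i = true := below_step fr 95326 1238 96564 ru76 rc77 rfl
theorem ru78 : ∀ i, i < 97802 → fr i = true := below_step fr 96564 1238 97802 ru77 rc78 rfl
theorem ru79 : ∀ i, i < 99040 → fr i = true := below_step fr 97802 1238 99040 ru78 rc79 rfl
theorem ru80 : ∀ i, i < 100278 → fr i = true := below_step fr 99040 1238 100278 ru79 rc80 rfl
theorem ru81 : ∀ i, i < 101516 → fr i = true := below_step fr 100278 1238 101516 ru80 rc81 rfl
theorem ru82 : ∀ i, i < 102754 → fr i = true := below_step fr 101516 1238 102754 ru81 rc82 rfl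
theorem ru83 : ∀ i, i < 103992 → fr i = true := below_step fr 102754 1238 103992 ru82 rc83 rfl
theorem ru84 : ∀ i, i < 105230 → fr i = true := below_step fr 103992 1238 105230 ru83 rc84 rfl
theorem ru85 : ∀ i, i < 106468 → fr i = true := below_step fr 105230 1238 106468 ru84 rc85 rfl
theorem ru86 : ∀ i, i < 107706 → fr i = true := below_step fr 106468 1238 107706 ru85 rc86 rfl
theorem ru87 : ∀ i, i < 108944 → fr i = true := below_step fr 107706 1238 108944 ru86 rc87 rfl
theorem ru88 : ∀ i, i < 110182 → fr i = true := below_step fr 108944 1238 110182 ru87 rc88 rfl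
theorem ru89 : ∀ i, i < 111420 → fr i = true := below_step fr 110182 1238 111420 ru88 rc89 rfl
theorem ru90 : ∀ i, i < 112658 → fr i = true := below_step fr 111420 1238 112658 ru89 rc90 rfl
theorem ru91 : ∀ i, i < 113896 → fr i = true := below_step fr 112658 1238 113896 ru90 rc91 rfl
theorem ru92 : ∀ i, i < 115134 → fr i = true := below_step fr 113896 1238 115134 ru91 rc92 rfl
theorem ru93 : ∀ i, i < 116372 → fr i = true := below_step fr 115134 1238 116372 ru92 rc93 rfl
theorem ru94 : ∀ i, i < 117610 → fr i = true := below_step fr 116372 1238 117610 ru93 rc94 rfl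
theorem ru95 : ∀ i, i < 118848 → fr i = true := below_step fr 117610 1238 118848 ru94 rc95 rfl
theorem ru96 : ∀ i, i < 120086 → fr i = true := below_step fr 118848 1238 120086 ru95 rc96 rfl
theorem ru97 : ∀ i, i < 121324 → fr i = true := below_step fr 120086 1238 121324 ru96 rc97 rfl
theorem ru98 : ∀ i, i < 122562 → fr i = true := below_step fr 121324 1238 122562 ru97 rc98 rfl
theorem ru99 : ∀ i, i < 122760 → fr i = true := below_step fr 122562 198 122760 ru98 rc99 rfl
theorem hq0 (i : Nat) (hi : i < 122760) : q0 i = pwalk ON122760.permData.pt [7] i := by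
  have h3 := Cfsg.Agent.Lib.Helper35.ONFast.subTab.pwalk_expand [7] (by decide +kernel) i hi
  rw [show expand [[0], [1], [2], [3], [4], [5], [6], [7]] [7] = [7] from by decide +kernel] at h3
  rw [h3]
  exact (Nat.eq_of_beq_eq_true (e0u2 i hi)).trans (we0.hf i)
theorem hq1 (i : Nat) (hi : i < 122760) : q1 i = pwalk ON122760.permData.pt [7, 5, 7, 6, 0, 5, 6, 4, 2, 0, 5, 4, 1, 3, 7, 6, 4, 3, 5, 2, 6, 5, 7, 5, 3, 6, 7, 2, 1, 5, 0, 5, 0, 2, 7, 6, 3, 5, 7, 5, 6, 2, 5, 3, 4, 6, 7, 3, 0, 4, 5, 1, 2, 4, 6, 5, 1, 6, 7, 5, 7] i := by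
  have h3 := Cfsg.Agent.Lib.Helper35.ONFast.subTab.pwalk_expand [7, 5, 7, 6, 0, 5, 6, 4, 2, 0, 5, 4, 1, 3, 7, 6, 4, 3, 5, 2, 6, 5, 7, 5, 3, 6, 7, 2, 1, 5, 0, 5, 0, 2, 7, 6, 3, 5, 7, 5, 6, 2, 5, 3, 4, 6, 7, 3, 0, 4, 5, 1, 2, 4, 6, 5, 1, 6, 7, 5, 7] (by decide +kernel) i hi
  rw [show expand [[0], [1], [2], [3], [4], [5], [6], [7]] [7, 5, 7, 6, 0, 5, 6, 4, 2, 0, 5, 4, 1, 3, 7, 6, 4, 3, 5, 2, 6, 5, 7, 5, 3, 6, 7, 2, 1, 5, 0, 5, 0, 2, 7, 6, 3, 5, 7, 5, 6, 2, 5, 3, 4, 6, 7, 3, 0, 4, 5, 1, 2, 4, 6, 5, 1, 6, 7, 5, 7] = [7, 5, 7, 6, 0, 5, 6, 4, 2, 0, 5, 4, 1, 3, 7, 6, 4, 3, 5, 2, 6, 5, 7, 5, 3, 6, 7, 2, 1, 5, 0, 5, 0, 2, 7, 6, 3, 5, 7, 5, 6, 2, 5, 3, 4, 6, 7, 3, 0, 4, 5, 1, 2, 4, 6, 5, 1, 6, 7, 5, 7] from by decide +kernel] at h3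
  rw [h3]
  exact (Nat.eq_of_beq_eq_true (e1u89 i hi)).trans (we1.hf i)
theorem hq2 (i : Nat) (hi : i < 122760) : q2 i = pwalk ON122760.permData.pt [7, 5, 7, 6, 0, 5, 6, 4, 2, 0, 5, 4, 1, 3, 7, 6, 4, 3, 5, 2, 6, 5, 7, 5, 3, 6, 7, 2, 1, 5, 1, 5, 0, 2, 7, 6, 3, 5, 7, 5, 6, 2, 5, 3, 4, 6, 7, 3, 0, 4, 5, 1, 2, 4, 6, 5, 1, 6, 7, 5, 7] i := by
  have h3 := Cfsg.Agent.Lib.Helper35.ONFast.subTab.pwalk_expand [7, 5, 7, 6, 0, 5, 6, 4, 2, 0, 5, 4, 1, 3, 7, 6, 4, 3, 5, 2, 6, 5, 7, 5, 3, 6, 7, 2, 1, 5, 1, 5, 0, 2, 7, 6, 3, 5, 7, 5, 6, 2, 5, 3, 4, 6, 7, 3, 0, 4, 5, 1, 2, 4, 6, 5, 1, 6, 7, 5, 7] (by decide +kernel) i hi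
  rw [show expand [[0], [1], [2], [3], [4], [5], [6], [7]] [7, 5, 7, 6, 0, 5, 6, 4, 2, 0, 5, 4, 1, 3, 7, 6, 4, 3, 5, 2, 6, 5, 7, 5, 3, 6, 7, 2, 1, 5, 1, 5, 0, 2, 7, 6, 3, 5, 7, 5, 6, 2, 5, 3, 4, 6, 7, 3, 0, 4, 5, 1, 2, 4, 6, 5, 1, 6, 7, 5, 7] = [7, 5, 7, 6, 0, 5, 6, 4, 2, 0, 5, 4, 1, 3, 7, 6, 4, 3, 5, 2, 6, 5, 7, 5, 3, 6, 7, 2, 1, 5, 1, 5, 0, 2, 7, 6, 3, 5, 7, 5, 6, 2, 5, 3, 4, 6, 7, 3, 0, 4, 5, 1, 2, 4, 6, 5, 1, 6, 7, 5, 7] from by decide +kernel] at h3
  rw [h3]
  exact (Nat.eq_of_beq_eq_true (e2u89 i hi)).trans (we2.hf i)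
noncomputable def subTab : SubTab ON122760.permData [[7], [7, 5, 7, 6, 0, 5, 6, 4, 2, 0, 5, 4, 1, 3, 7, 6, 4, 3, 5, 2, 6, 5, 7, 5, 3, 6, 7, 2, 1, 5, 0, 5, 0, 2, 7, 6, 3, 5, 7, 5, 6, 2, 5, 3, 4, 6, 7, 3, 0, 4, 5, 1, 2, 4, 6, 5, 1, 6, 7, 5, 7], [7, 5, 7, 6, 0, 5, 6, 4, 2, 0, 5, 4, 1, 3, 7, 6, 4, 3, 5, 2, 6, 5, 7, 5, 3, 6, 7, 2, 1, 5, 1, 5, 0, 2, 7, 6, 3, 5, 7, 5, 6, 2, 5, 3, 4, 6, 7, 3, 0, 4, 5, 1, 2, 4, 6, 5, 1, 6, 7, 5, 7]] where
  qt := qt
  hWC := by decide +kernel
  hq := by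
    intro c hc
    have hc' : c < 3 := hc
    interval_cases c
    exacts [hq0, hq1, hq2]
theorem hrel : ∀ b ∈ rls.map PLeaf.W, ∀ i, i < 122760 → pwalk qt b i = i := fix_of_leaves' rls 122760 ru99

end Cfsg.Agent.Lib.Helper35.ONM11
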